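import Cfsg.Agent.Lib.ClassCount.Unitary.Twist
import Cfsg.Agent.Lib.Classical.ClassTheory.Unitary

/-!
# Classes of `GU` and `SU` in terms of tuples fixed by the twist
-/

set_option autoImplicit false

open Polynomial Matrix
open scoped Classical
open CfsgLib.Classical CfsgLib.Classical.Herm CfsgLib.Classical.ClassTheory

namespace CfsgLib.ClassNumber

universe u

variable {K : Type u} [Field K] [Fintype K] {n : ℕ}

/-- Fixed by `g ↦ σ(g)` followed by the reciprocal. -/
def SelfTwist (σ : K →+* K) (g : K[X]) : Prop := g.map σ = recipPoly g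

theorem tupGL_eq_of {g : GL (Fin n) K} {M : Matrix (Fin n) (Fin n) K} (hM : (g : Matrix (Fin n) (Fin n) K) = M)
    (D : Decomp (endo M)) (i : Fin n) : (tupGL g).1 i = D.part (1 + (i : ℕ)) := by
  subst hM
  rw [tupGL_eq g D]
  rfl

theorem tupGL_inv (g : GL (Fin n) K) (i : Fin n) : (tupGL g⁻¹).1 i = recipPoly ((tupGL g).1 i) := by
  obtain ⟨D', hD'⟩ := (chosen g).exists_inv (endo_surjective g)
    (T' := endo ((g⁻¹ : GL (Fin n) K) : Matrix (Fin n) (Fin n) K)) fun v => by
      rw [← Module.End.mul_apply, ← map_mul, Units.inv_mul, map_one, Module.End.one_apply]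
  rw [tupGL_eq_of rfl D' i, hD' _ (by omega)]
  rfl

theorem tupGL_map (σ : K →+* K) (hσ : ∀ a, σ (σ a) = a) {g h : GL (Fin n) K}
    (hh : (h : Matrix (Fin n) (Fin n) K) = (g : Matrix (Fin n) (Fin n) K).map σ) (i : Fin n) :
    (tupGL h).1 i = ((tupGL g).1 i).map σ := by
  obtain ⟨D', hD'⟩ := (chosen g).exists_map σ hσ
  rw [tupGL_eq_of hh D' i, hD']
  rfl

theorem tupGL_of_isConj {g h : GL (Fin n) K} (hc : IsConj g h) : tupGL g = tupGL h := by
  obtain ⟨x, rfl⟩ := isConj_iff.1 hc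
  rw [tupGL_conj]

theorem isConj_of_transpose {g h : GL (Fin n) K}
    (hh : (h : Matrix (Fin n) (Fin n) K) = (g : Matrix (Fin n) (Fin n) K)ᵀ) : IsConj g h := by
  obtain ⟨c, hc⟩ := CfsgLib.Known.TransposeSimilar.isConj_transpose (g : Matrix (Fin n) (Fin n) K)
  refine isConj_iff.2 ⟨c, mul_inv_eq_iff_eq_mul.2 (Units.ext ?_)⟩
  rw [Units.val_mul, Units.val_mul, hh]
  exact hc

variable {q : ℕ} (hK : Fintype.card K = q ^ 2)

include hK in
theorem selfTwist_tupGL (A : ↥(Cfsg.GU n K q)) (i : Fin n) :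
    SelfTwist (powHom hK) ((tupGL (A : GL (Fin n) K)).1 i) := by
  set a := (A : GL (Fin n) K)
  have hsa : ustar (powHom hK) a = a⁻¹ := eq_inv_of_mul_eq_one_left ((mem_GU_iff hK _).1 A.2)
  let m : GL (Fin n) K := Units.map (powHom hK).mapMatrix.toMonoidHom a
  have hm : (m : Matrix (Fin n) (Fin n) K) = (a : Matrix (Fin n) (Fin n) K).map (powHom hK) := rfl
  have h1 : IsConj m a⁻¹ := isConj_of_transpose (by rw [← hsa, hm]; rfl)
  show _ = _
  rw [← tupGL_inv a i, ← tupGL_of_isConj h1, tupGL_map (powHom hK) (powHom_isInvol hK).invol hm i]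

include hK in
theorem card_gu_det_range : Nat.card (powMonoidHom (q - 1) : Kˣ →* Kˣ).range = q + 1 := by
  have hq := two_le_of_card_sq hK
  rw [IsCyclic.card_powMonoidHom_range, Nat.card_units, Nat.card_eq_fintype_card, hK]
  have h : q ^ 2 - 1 = (q - 1) * (q + 1) := by
    obtain ⟨p, rfl⟩ : ∃ p, q = p + 1 := ⟨q - 1, by omega⟩
    simp only [Nat.add_sub_cancel]
    rw [Nat.sub_eq_iff_eq_add (Nat.one_le_pow _ _ (by omega))]
    ring
  rw [h, Nat.gcd_eq_right (dvd_mul_right _ _), Nat.mul_div_cancel_left _ (by omega)]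

/-- The determinant on `GU`. -/
noncomputable def guDet (n : ℕ) (K : Type u) [Field K] (q : ℕ) : ↥(Cfsg.GU n K q) →* Kˣ :=
  Matrix.GeneralLinearGroup.det.comp (Cfsg.GU n K q).subtype

theorem det_ustar (σ : K →+* K) (g : GL (Fin n) K) :
    ((Matrix.GeneralLinearGroup.det (ustar σ g) : Kˣ) : K) = σ ((Matrix.GeneralLinearGroup.det g : Kˣ) : K) := by
  show ((g : Matrix (Fin n) (Fin n) K).map σ)ᵀ.det = σ (g : Matrix (Fin n) (Fin n) K).det
  rw [Matrix.det_transpose, RingHom.map_det]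
  rfl

include hK in
/-- A determinant of the linear centraliser, twisted, is one of the unitary centraliser. -/
theorem pow_det_mem (A : ↥(Cfsg.GU n K q)) (S : GL (Fin n) K) (hS : Commute S (A : GL (Fin n) K)) :
    Matrix.GeneralLinearGroup.det S ^ (q - 1) ∈
      (Subgroup.centralizer ({A} : Set ↥(Cfsg.GU n K q))).map (guDet n K q) := by
  set σ := powHom hK
  have hσ := powHom_isInvol hK
  set a := (A : GL (Fin n) K)
  have hsa : ustar σ a = a⁻¹ := eq_inv_of_mul_eq_one_left ((mem_GU_iff hK _).1 A.2)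
  have hstar : ∀ x, Commute x a → Commute (ustar σ x) a := fun x hx => by
    have h := congrArg (ustar σ) hx.eq
    rw [ustar_mul, ustar_mul, hsa] at h
    exact Commute.inv_right_iff.1 h.symm
  obtain ⟨D, hD, hDc⟩ := exists_sstar_mul_self σ hσ (ustar σ S * S) (by rw [ustar_mul, ustar_ustar σ hσ.invol])
  have hDa : Commute D a := hDc a ((hstar S hS).mul_left hS)
  have hDD : Commute D (ustar σ D) := by
    have h := (hDc _ (Commute.refl _)).eq
    rw [← hD, ← mul_assoc] at h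
    exact mul_right_cancel h
  have hu : S * D⁻¹ ∈ Cfsg.GU n K q := by
    rw [mem_GU_iff hK, ustar_mul, ustar_inv]
    calc (ustar σ D)⁻¹ * ustar σ S * (S * D⁻¹) = (ustar σ D)⁻¹ * (ustar σ S * S) * D⁻¹ := by group
      _ = 1 := by rw [← hD]; group
  have hw : D * (ustar σ D)⁻¹ ∈ Cfsg.GU n K q := by
    rw [mem_GU_iff hK, ustar_mul, ustar_inv, ustar_ustar σ hσ.invol]
    calc D⁻¹ * ustar σ D * (D * (ustar σ D)⁻¹) = D⁻¹ * (ustar σ D * D) * (ustar σ D)⁻¹ := by group
      _ = 1 := by rw [← hDD.eq]; group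
  have hmem : ∀ (x : GL (Fin n) K) (hx : x ∈ Cfsg.GU n K q), Commute x a →
      Matrix.GeneralLinearGroup.det x ∈ (Subgroup.centralizer ({A} : Set ↥(Cfsg.GU n K q))).map (guDet n K q) :=
    fun x hx hxa => ⟨⟨x, hx⟩, Subgroup.mem_centralizer_singleton_iff.2 (Subtype.ext hxa.eq), rfl⟩
  have h1 := hmem _ hu (hS.mul_left hDa.inv_left)
  have h2 := hmem _ hw (hDa.mul_left (hstar D hDa).inv_left)
  have hq := two_le_of_card_sq hK
  have hpow : ∀ x : GL (Fin n) K, Matrix.GeneralLinearGroup.det (ustar σ x) = Matrix.GeneralLinearGroup.det x ^ q :=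
    fun x => Units.ext (by rw [det_ustar, Units.val_pow_eq_pow_val]; exact powHom_apply hK _)
  have hN := congrArg Matrix.GeneralLinearGroup.det hD
  rw [map_mul, map_mul, hpow, hpow] at hN
  rw [← inv_mem_iff]
  refine (Eq.subst · (mul_mem (mul_mem h1 h1) h2)) ?_
  rw [map_mul, map_inv, map_mul, map_inv, hpow]
  obtain ⟨p, rfl⟩ : ∃ p, q = p + 1 := ⟨q - 1, by omega⟩
  rw [pow_succ, mul_assoc, pow_succ, mul_assoc] at hN
  rw [Nat.add_sub_cancel, pow_succ]
  generalize Matrix.GeneralLinearGroup.det S = s at hN ⊢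
  generalize Matrix.GeneralLinearGroup.det D = d at hN ⊢
  rw [eq_inv_iff_mul_eq_one]
  have e := congrArg (fun x : Kˣ => (x : K)) hN
  refine Units.ext ?_
  simp only [Units.val_mul, Units.val_inv_eq_inv_val, Units.val_pow_eq_pow_val, Units.val_one] at e ⊢
  field_simp
  linear_combination -e

include hK in
theorem le_gg_mul_card_gu_det (A : ↥(Cfsg.GU n K q)) :
    q + 1 ≤ gg (q + 2) (tupGL (A : GL (Fin n) K)).deg *
      Nat.card ((Subgroup.centralizer ({A} : Set ↥(Cfsg.GU n K q))).map (guDet n K q)) := by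
  set D := (Subgroup.centralizer ({A} : Set ↥(Cfsg.GU n K q))).map (guDet n K q)
  set R := (powMonoidHom (q - 1) : Kˣ →* Kˣ).range
  have hR : Nat.card R = q + 1 := card_gu_det_range hK
  have hD : Nat.card (D.subgroupOf R) ≤ Nat.card D := by
    refine Nat.card_le_card_of_injective (fun x => (⟨x.1.1, x.2⟩ : D)) fun x y h => ?_
    exact Subtype.ext (Subtype.ext (Subtype.ext_iff.1 h :))
  refine le_trans ?_ (Nat.mul_le_mul_left _ hD)
  rw [← hR]
  refine le_mul_card_of_pow_mem _ (hR ▸ (Nat.gcd_dvd_left _ _ : gg (q + 2) _ ∣ q + 1)) ?_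
  have hclose : ∀ a b : ℕ, (∀ x : R, x ^ a ∈ D.subgroupOf R) → (∀ x : R, x ^ b ∈ D.subgroupOf R) →
      ∀ x : R, x ^ Nat.gcd a b ∈ D.subgroupOf R := fun a b ha hb x => by
    rw [← _root_.zpow_natCast, Nat.gcd_eq_gcd_ab, _root_.zpow_add, _root_.zpow_mul, _root_.zpow_mul,
      _root_.zpow_natCast, _root_.zpow_natCast]
    exact mul_mem (zpow_mem (ha x) _) (zpow_mem (hb x) _)
  refine hclose _ _ (fun x => ?_) (Finset.univ.induction_on ?_ ?_)
  · show x ^ (q + 1) ∈ _
    rw [← hR, pow_card_eq_one']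
    exact one_mem _
  · intro x
    simp
  · intro k s _ ih x
    rw [Finset.gcd_insert]
    refine hclose _ _ (fun y => ?_) ih x
    by_cases hk : (tupGL (A : GL (Fin n) K)).deg k = 0
    · simp [hk]
    rw [if_neg hk]
    obtain ⟨i, hi⟩ : ∃ i, (chosen (A : GL (Fin n) K)).e i = 1 + (k : ℕ) := by
      by_contra hcon
      refine hk ?_
      show ((chosen (A : GL (Fin n) K)).part (1 + (k : ℕ))).natDegree = 0
      rw [(chosen _).natDegree_part, Finset.filter_eq_empty_iff.2 fun i _ hi => hcon ⟨i, hi⟩, Finset.sum_empty]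
    obtain ⟨c, hc⟩ := MonoidHom.mem_range.1 y.2
    obtain ⟨S, hS, hdet⟩ := (chosen (A : GL (Fin n) K)).exists_commute_det i c
    rw [hi] at hdet
    have hdM : (Matrix.toLinAlgEquiv'.symm S).det = (c : K) ^ (1 + (k : ℕ)) := by
      rw [← hdet, ← LinearMap.det_toLin']
      exact congrArg _ (Matrix.toLinAlgEquiv'.apply_symm_apply S)
    let s : GL (Fin n) K := Matrix.GeneralLinearGroup.mkOfDetNeZero (Matrix.toLinAlgEquiv'.symm S)
      (by rw [hdM]; exact pow_ne_zero _ c.ne_zero)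
    have hsA : Commute s (A : GL (Fin n) K) := Units.ext (Matrix.toLinAlgEquiv'.injective (by
      rw [Units.val_mul, Units.val_mul, map_mul, map_mul]
      show Matrix.toLinAlgEquiv' (Matrix.toLinAlgEquiv'.symm S) * _ =
        _ * Matrix.toLinAlgEquiv' (Matrix.toLinAlgEquiv'.symm S)
      rw [AlgEquiv.apply_symm_apply]
      exact hS))
    have hds : Matrix.GeneralLinearGroup.det s = c ^ (1 + (k : ℕ)) :=
      Units.ext ((show _ = (Matrix.toLinAlgEquiv'.symm S).det from rfl).trans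
        (hdM.trans (Units.val_pow_eq_pow_val _ _).symm))
    have := pow_det_mem hK A s hsA
    rw [hds, ← pow_mul, mul_comm, pow_mul] at this
    rw [Subgroup.mem_subgroupOf, Subgroup.coe_pow, ← hc]
    exact this

/-- `SU` inside `GU`. -/
noncomputable def suToGU (n : ℕ) (K : Type u) [Field K] (q : ℕ) : ↥(Cfsg.SU n K q) →* ↥(Cfsg.GU n K q) where
  toFun u := ⟨Matrix.SpecialLinearGroup.toGL u.1, u.2⟩
  map_one' := Subtype.ext (map_one _)
  map_mul' a b := Subtype.ext (map_mul _ _ _)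

/-- The tuple of an element of `SU`. -/
noncomputable def tupSU (u : ↥(Cfsg.SU n K q)) : Tup K n := tupGL (Matrix.SpecialLinearGroup.toGL u.1)

include hK in
theorem card_su_fibre_le (u : ↥(Cfsg.SU n K q)) :
    Nat.card {C : ConjClasses ↥(Cfsg.SU n K q) // ∃ v, ConjClasses.mk v = C ∧ tupSU v = tupSU u} ≤
      gg (q + 2) (tupSU u).deg := by
  have hj : Function.Injective (suToGU n K q) := fun a b h =>
    Subtype.ext (Matrix.SpecialLinearGroup.toGL_injective (Subtype.ext_iff.1 h :))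
  have hrange : ∀ g : ↥(Cfsg.GU n K q), g ∈ Set.range (suToGU n K q) ↔ guDet n K q g = 1 := fun g =>
    ⟨by rintro ⟨v, rfl⟩; exact Units.ext v.1.2,
      fun hg => ⟨⟨⟨((g : GL (Fin n) K) : Matrix (Fin n) (Fin n) K), congrArg Units.val hg⟩, g.2⟩,
        Subtype.ext (Units.ext rfl)⟩⟩
  have hdet : guDet n K q (suToGU n K q u) = 1 := (hrange _).1 ⟨u, rfl⟩
  have hcl := CfsgLib.Classical.ClassTheory.card_classes_kernel (guDet n K q) (suToGU n K q) hj hrange
    (suToGU n K q u) hdet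
  have hrg : Nat.card (guDet n K q).range ≤ q + 1 := by
    have hq := two_le_of_card_sq hK
    have hker : Nat.card (powMonoidHom (q + 1) : Kˣ →* Kˣ).ker ≤ q + 1 := by
      rw [IsCyclic.card_powMonoidHom_ker]
      exact Nat.le_of_dvd (Nat.succ_pos q) (Nat.gcd_dvd_right _ _)
    refine le_trans (Subgroup.card_le_of_le ?_) hker
    rintro _ ⟨g, rfl⟩
    rw [MonoidHom.mem_ker, powMonoidHom_apply]
    have h := congrArg Matrix.GeneralLinearGroup.det ((mem_GU_iff hK _).1 g.2)
    rw [map_mul, map_one] at h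
    refine Eq.trans ?_ h
    rw [pow_succ]
    congr 1
    exact Units.ext (((Units.val_pow_eq_pow_val _ _).trans (powHom_apply hK _).symm).trans (det_ustar _ _).symm)
  have hle := le_gg_mul_card_gu_det hK (suToGU n K q u)
  refine le_trans (Nat.card_le_card_of_injective (fun C => (⟨C.1, ?_⟩ : {C : ConjClasses ↥(Cfsg.SU n K q) //
      ∃ v, ConjClasses.mk v = C ∧ IsConj (suToGU n K q u) (suToGU n K q v)}))
      (fun a b h => Subtype.ext (Subtype.ext_iff.1 h :)))
    (Nat.le_of_mul_le_mul_right ((hcl.le.trans hrg).trans hle) Nat.card_pos)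
  obtain ⟨v, hv, htv⟩ := C.2
  exact ⟨v, hv, (gu_isConj_iff _ _ hK).2 (isConj_of_tupGL_eq htv.symm)⟩

/-- The tuples of elements of `SU`. -/
abbrev STup (σ : K →+* K) (n : ℕ) : Type u :=
  {t : Tup K n // (∀ i, SelfTwist σ (t.1 i)) ∧ t.cpro = (-1) ^ n}

include hK in
theorem card_su_classes_le_sigma : Nat.card (ConjClasses ↥(Cfsg.SU n K q)) ≤
    Nat.card (Σ t : STup (powHom hK) n, Fin (gg (q + 2) t.1.deg)) := by
  haveI : Fintype (STup (powHom hK) n) := Fintype.ofFinite _
  let f : ConjClasses ↥(Cfsg.SU n K q) → STup (powHom hK) n :=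
    Quotient.lift (fun u => ⟨tupSU u, fun i => selfTwist_tupGL hK (suToGU n K q u) i, cpro_tupGL u.1⟩)
      fun a b hab => Subtype.ext (tupGL_of_isConj
        (MonoidHom.map_isConj (Matrix.SpecialLinearGroup.toGL.comp (Cfsg.SU n K q).subtype) hab))
  rw [← Nat.card_congr (Equiv.sigmaFiberEquiv f), Nat.card_sigma, Nat.card_sigma]
  refine Finset.sum_le_sum fun t _ => ?_
  rw [Nat.card_fin]
  rcases isEmpty_or_nonempty {C // f C = t} with he | ⟨⟨C, hC⟩⟩
  · simp
  obtain ⟨u, rfl⟩ := ConjClasses.mk_surjective C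
  have hu : tupSU u = t.1 := congrArg Subtype.val hC
  rw [← hu]
  refine le_trans (Nat.card_le_card_of_injective (fun D => (⟨D.1, ?_⟩ : {C : ConjClasses ↥(Cfsg.SU n K q) //
      ∃ v, ConjClasses.mk v = C ∧ tupSU v = tupSU u})) (fun a b h => Subtype.ext (Subtype.ext_iff.1 h :)))
    (card_su_fibre_le hK u)
  obtain ⟨v, hv⟩ := ConjClasses.mk_surjective D.1
  refine ⟨v, hv, ?_⟩
  have h2 := congrArg Subtype.val D.2
  rw [← hv] at h2
  exact h2.trans hu.symm

end CfsgLib.ClassNumber
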