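import Cfsg.Agent.Lib.ClassCount.Unitary.Count
import Cfsg.Agent.Lib.ClassCount.Linear.Bounds

/-!
# Bounds on the class numbers of `SU`

`TU q n` is the coefficient of `X ^ n` in `∏ j, (1 + X ^ j) / (1 - q X ^ j)`, which is at most
`(28 / 5) (q + 1) q ^ (n - 1)`. The lower bound comes from companion matrices.
-/

set_option autoImplicit false

open Polynomial Matrix
open scoped Classical
open CfsgLib.Classical CfsgLib.Classical.Herm CfsgLib.Classical.ClassTheory

namespace CfsgLib.ClassNumber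

/-- The product of the first `l` factors `(1 + y) / (1 - 2 y)` with `y = 1 / 2 ^ (i + 2)`. -/
def GP (l : ℕ) : ℚ := ∏ i ∈ Finset.range l, (1 + 1 / 2 ^ (i + 2)) / (1 - 2 / 2 ^ (i + 2))

theorem GP_factor (i : ℕ) : 1 ≤ (1 + 1 / (2 : ℚ) ^ (i + 2)) / (1 - 2 / 2 ^ (i + 2)) := by
  have h4 : (4 : ℚ) ≤ 2 ^ (i + 2) := by
    calc (4 : ℚ) = 2 ^ 2 := by norm_num
      _ ≤ _ := pow_le_pow_right₀ (by norm_num) (by omega)
  have hy : 0 < 1 / (2 : ℚ) ^ (i + 2) ∧ 1 / (2 : ℚ) ^ (i + 2) ≤ 1 / 4 := ⟨by positivity, by gcongr⟩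
  have e : (2 : ℚ) / 2 ^ (i + 2) = 2 * (1 / 2 ^ (i + 2)) := by ring
  rw [e, le_div_iff₀ (by linarith [hy.2])]
  linarith [hy.1]

theorem GP_le_aux : ∀ k : ℕ, GP (k + 5) ≤ GP 5 / (1 - 7 / 128) * (1 - 7 / 2 ^ (k + 7)) := by
  intro k
  induction k with
  | zero =>
    have : (0 : ℚ) ≤ GP 5 := by norm_num [GP, Finset.prod_range_succ]
    rw [div_mul_eq_mul_div, le_div_iff₀ (by norm_num)]
    norm_num
  | succ k ih =>
    rw [show k + 1 + 5 = (k + 5) + 1 by omega, GP, Finset.prod_range_succ, ← GP]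
    rw [show k + 1 + 7 = (k + 7) + 1 by omega, show k + 5 + 2 = k + 7 by omega, pow_succ (2 : ℚ) (k + 7)]
    have hf := GP_factor (k + 5)
    rw [show k + 5 + 2 = k + 7 by omega] at hf
    refine (mul_le_mul_of_nonneg_right ih (by linarith)).trans ?_
    have hC : (0 : ℚ) ≤ GP 5 / (1 - 7 / 128) := by norm_num [GP, Finset.prod_range_succ]
    rw [mul_assoc]
    refine mul_le_mul_of_nonneg_left ?_ hC
    have h128 : (128 : ℚ) ≤ 2 ^ (k + 7) := by
      calc (128 : ℚ) = 2 ^ 7 := by norm_num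
        _ ≤ _ := pow_le_pow_right₀ (by norm_num) (by omega)
    generalize (2 : ℚ) ^ (k + 7) = P at h128 ⊢
    have hP : 0 < P := by linarith
    rw [show (1 - 7 / P) = (P - 7) / P by field_simp, show (1 + 1 / P) = (P + 1) / P by field_simp,
      show (1 - 2 / P) = (P - 2) / P by field_simp, show (1 - 7 / (P * 2)) = (2 * P - 7) / (2 * P) by field_simp,
      div_div_div_cancel_right₀ hP.ne', div_mul_div_comm, div_le_div_iff₀ (by nlinarith) (by linarith)]
    nlinarith

theorem GP_le (l : ℕ) : GP l ≤ 28 / 5 := by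
  by_cases h : l < 5
  · interval_cases l <;> norm_num [GP, Finset.prod_range_succ]
  · obtain ⟨k, rfl⟩ : ∃ k, l = k + 5 := ⟨l - 5, by omega⟩
    refine (GP_le_aux k).trans ((mul_le_of_le_one_right ?_ ?_).trans ?_)
    · norm_num [GP, Finset.prod_range_succ]
    · have : (0 : ℚ) ≤ 7 / 2 ^ (k + 7) := by positivity
      linarith
    · norm_num [GP, Finset.prod_range_succ]

theorem cU_series_eq (q : ℕ) (r : ℚ) (N : ℕ) :
    (1 - q * r) * ∑ a ∈ Finset.range (N + 1), (cU q a : ℚ) * r ^ a = 1 + r - (q + 1) * r * (q * r) ^ N := by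
  induction N with
  | zero => simp [cU]; ring
  | succ N ih =>
    rw [Finset.sum_range_succ, mul_add, ih, cU, if_neg (Nat.succ_ne_zero N), Nat.add_sub_cancel, mul_pow, mul_pow]
    push_cast
    ring

theorem cU_series_le {q : ℕ} (hq : 2 ≤ q) (j N : ℕ) :
    ∑ a ∈ Finset.range (N + 1), (cU q a : ℚ) * (((q : ℚ) ^ (j + 2))⁻¹) ^ a ≤
      (1 + 1 / 2 ^ (j + 2)) / (1 - 2 / 2 ^ (j + 2)) := by
  have hq' : (2 : ℚ) ≤ q := by exact_mod_cast hq
  have hr0 : (0 : ℚ) < ((q : ℚ) ^ (j + 2))⁻¹ := by positivity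
  have hr : ((q : ℚ) ^ (j + 2))⁻¹ ≤ 1 / 2 ^ (j + 2) := by
    rw [← one_div]
    gcongr
  have hqr : (q : ℚ) * ((q : ℚ) ^ (j + 2))⁻¹ ≤ 2 / 2 ^ (j + 2) := by
    rw [pow_succ' (q : ℚ) (j + 1), mul_inv, ← mul_assoc, mul_inv_cancel₀ (by linarith), one_mul,
      pow_succ' (2 : ℚ) (j + 1), div_mul_cancel_left₀ (by norm_num)]
    gcongr
  have hy : (2 : ℚ) / 2 ^ (j + 2) ≤ 1 / 2 := by
    rw [div_le_iff₀ (by positivity)]
    have : (4 : ℚ) ≤ 2 ^ (j + 2) := by
      calc (4 : ℚ) = 2 ^ 2 := by norm_num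
        _ ≤ _ := pow_le_pow_right₀ (by norm_num) (by omega)
    linarith
  set r := ((q : ℚ) ^ (j + 2))⁻¹
  have h := cU_series_eq q r N
  have h0 : 0 ≤ ((q : ℚ) + 1) * r * (q * r) ^ N := by positivity
  have hS : 0 ≤ ∑ a ∈ Finset.range (N + 1), (cU q a : ℚ) * r ^ a :=
    Finset.sum_nonneg fun a _ => by positivity
  rw [le_div_iff₀ (by linarith)]
  calc _ ≤ (∑ a ∈ Finset.range (N + 1), (cU q a : ℚ) * r ^ a) * (1 - q * r) :=
        mul_le_mul_of_nonneg_left (by linarith) hS
    _ ≤ _ := by rw [mul_comm, h]; linarith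

theorem TU_le {q n : ℕ} (hq : 2 ≤ q) (hn : 1 ≤ n) : 5 * TU q n ≤ 28 * ((q + 1) * q ^ (n - 1)) := by
  obtain ⟨l, rfl⟩ : ∃ l, n = l + 1 := ⟨n - 1, by omega⟩
  rw [Nat.add_sub_cancel]
  have hq' : (2 : ℚ) ≤ q := by exact_mod_cast hq
  have hq0 : (q : ℚ) ≠ 0 := by linarith
  let w : Fin l → ℕ → ℚ := fun i a => (cU q a : ℚ) * (((q : ℚ) ^ ((i : ℕ) + 2))⁻¹) ^ a
  have hw : ∀ i a, 0 ≤ w i a := fun i a => by positivity
  have hterm : ∀ m ∈ sol (l + 1) 1 (l + 1), ∏ i, (cU q (m i) : ℚ) ≤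
      ((q : ℚ) + 1) * q ^ l * ∏ i : Fin l, w i (Fin.tail m i) := fun m hm => by
    rw [mem_sol one_ne_zero, Fin.sum_univ_succ] at hm
    simp only [Fin.val_zero, add_zero, one_mul, Fin.val_succ] at hm
    have hc : (cU q (m 0) : ℚ) * q ≤ (q + 1) * q ^ m 0 := by
      unfold cU
      split_ifs with h
      · rw [h]; simp
      · obtain ⟨k, hk⟩ : ∃ k, m 0 = k + 1 := ⟨m 0 - 1, by omega⟩
        rw [hk, Nat.add_sub_cancel, pow_succ]
        push_cast
        linarith
    have hp : (q : ℚ) ^ m 0 * ∏ i : Fin l, (q : ℚ) ^ (((i : ℕ) + 2) * m i.succ) = q ^ l * q := by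
      rw [Finset.prod_pow_eq_pow_sum, ← pow_add, ← pow_succ]
      congr 1
      refine Eq.trans ?_ hm
      congr 1
      exact Finset.sum_congr rfl fun i _ => by ring
    have hpos : 0 < (q : ℚ) * ∏ i : Fin l, (q : ℚ) ^ (((i : ℕ) + 2) * m i.succ) := by positivity
    rw [Fin.prod_univ_succ]
    refine le_of_mul_le_mul_right ?_ hpos
    calc (cU q (m 0) : ℚ) * (∏ i : Fin l, (cU q (m i.succ) : ℚ)) * (q * ∏ i : Fin l, (q : ℚ) ^ (((i : ℕ) + 2) * m i.succ))
        = (cU q (m 0) : ℚ) * q * (∏ i : Fin l, (q : ℚ) ^ (((i : ℕ) + 2) * m i.succ)) *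
            ∏ i : Fin l, (cU q (m i.succ) : ℚ) := by ring
      _ ≤ (q + 1) * q ^ m 0 * (∏ i : Fin l, (q : ℚ) ^ (((i : ℕ) + 2) * m i.succ)) *
            ∏ i : Fin l, (cU q (m i.succ) : ℚ) := by gcongr
      _ = (q + 1) * (q ^ l * q) * ∏ i : Fin l, (cU q (m i.succ) : ℚ) := by rw [← hp]; ring
      _ = ((q : ℚ) + 1) * q ^ l * (∏ i : Fin l, w i (Fin.tail m i)) *
            (q * ∏ i : Fin l, (q : ℚ) ^ (((i : ℕ) + 2) * m i.succ)) := by
          have : ∏ i : Fin l, (cU q (m i.succ) : ℚ) =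
              (∏ i : Fin l, w i (Fin.tail m i)) * ∏ i : Fin l, (q : ℚ) ^ (((i : ℕ) + 2) * m i.succ) := by
            rw [← Finset.prod_mul_distrib]
            refine Finset.prod_congr rfl fun i _ => ?_
            simp only [w, Fin.tail, inv_pow, pow_mul]
            field_simp
          rw [this]; ring
  have hinj : Set.InjOn (fun m : Fin (l + 1) → ℕ => Fin.tail m) (sol (l + 1) 1 (l + 1)) := fun a ha b hb hab => by
    have ha' := (mem_sol one_ne_zero _).1 ha
    have hb' := (mem_sol one_ne_zero _).1 hb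
    rw [Fin.sum_univ_succ] at ha' hb'
    simp only [Fin.val_zero, add_zero, one_mul] at ha' hb'
    have e : ∀ i : Fin l, a i.succ = b i.succ := fun i => congrFun hab i
    simp only [e] at ha'
    funext i
    refine Fin.cases ?_ e i
    omega
  have hsum : ∑ m ∈ sol (l + 1) 1 (l + 1), ∏ i : Fin l, w i (Fin.tail m i) ≤ GP l := by
    rw [← Finset.sum_image hinj (f := fun t => ∏ i : Fin l, w i (t i))]
    refine (Finset.sum_le_sum_of_subset_of_nonneg (t := Fintype.piFinset fun _ : Fin l => Finset.range (l + 1 + 1))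
      (fun t ht => ?_) fun t _ _ => Finset.prod_nonneg fun i _ => hw i _).trans ?_
    · obtain ⟨m, hm, rfl⟩ := Finset.mem_image.1 ht
      exact Fintype.mem_piFinset.2 fun i => Fintype.mem_piFinset.1 (Finset.mem_filter.1 hm).1 i.succ
    · rw [← Finset.prod_univ_sum, GP, ← Fin.prod_univ_eq_prod_range]
      exact Finset.prod_le_prod (fun i _ => Finset.sum_nonneg fun a _ => hw i a) fun i _ => cU_series_le hq i (l + 1)
  have hT : (TU q (l + 1) : ℚ) ≤ ((q : ℚ) + 1) * q ^ l * (28 / 5) := by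
    rw [TU]
    push_cast
    refine (Finset.sum_le_sum hterm).trans ?_
    rw [← Finset.mul_sum]
    exact mul_le_mul_of_nonneg_left (hsum.trans (GP_le l)) (by positivity)
  have : ((5 * TU q (l + 1) : ℕ) : ℚ) ≤ ((28 * ((q + 1) * q ^ l) : ℕ) : ℚ) := by
    push_cast
    linarith
  exact_mod_cast this

theorem TU_one (q : ℕ) : TU q 1 = q + 1 := by
  rw [TU, show sol 1 1 1 = {fun _ => 1} from by decide]
  simp [cU]

theorem TU_two (q : ℕ) : TU q 2 = (q + 1) * (q + 1) := by
  rw [TU, show sol 2 1 2 = {![2, 0], ![0, 1]} from by decide, Finset.sum_pair (by decide)]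
  simp [cU, Fin.prod_univ_succ]
  ring

theorem TU_three (q : ℕ) : TU q 3 = (q + 1) * (q * q + q + 2) := by
  rw [TU, show sol 3 1 3 = {![3, 0, 0], ![1, 1, 0], ![0, 0, 1]} from by decide, Finset.sum_insert (by decide),
    Finset.sum_pair (by decide)]
  simp [cU, Fin.prod_univ_succ]
  ring

/-- The part of `UU` beyond `TU`. -/
noncomputable def EU (q n : ℕ) : ℕ := ∑ e ∈ (Nat.gcd n (q + 1)).divisors, (e ^ 2 - 1) * TU q (n / e)

theorem EU_le_large {q n : ℕ} (hq : 2 ≤ q) (hn : 8 ≤ n) : 100 * EU q n ≤ 266 * ((q + 1) * q ^ (n - 1)) := by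
  set A := (q + 1) * q ^ (n / 2 - 1)
  set B := (q + 1) ^ 2 * ((q + 1) * q ^ (n / 3 - 1))
  have hsub : (Nat.gcd n (q + 1)).divisors ⊆ Finset.range (q + 2) := fun e he => by
    have := Nat.le_of_dvd (by omega) ((Nat.dvd_of_mem_divisors he).trans (Nat.gcd_dvd_right _ _))
    exact Finset.mem_range.2 (by omega)
  have h1 : 5 * EU q n ≤ 28 * (3 * A + (q - 1) * B) := by
    rw [EU, Finset.mul_sum]
    refine (Finset.sum_le_sum fun e he => ?_).trans ((Finset.sum_le_sum_of_subset
      (f := fun e => 28 * ((if e = 2 then 3 * A else 0) + if e ∈ Finset.Ico 3 (q + 2) then B else 0)) hsub).trans ?_)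
    · have heq : e < q + 2 := Finset.mem_range.1 (hsub he)
      have hen : e ≤ n := Nat.le_of_dvd (by omega) ((Nat.dvd_of_mem_divisors he).trans (Nat.gcd_dvd_left _ _))
      have he0 := Nat.pos_of_mem_divisors he
      have hd := TU_le hq (Nat.div_pos hen he0)
      by_cases he2 : e = 2
      · subst he2
        rw [if_pos rfl]
        show 5 * (3 * TU q (n / 2)) ≤ _
        omega
      · rw [if_neg he2, zero_add]
        rcases Nat.lt_or_ge e 3 with h3 | h3
        · obtain rfl : e = 1 := by omega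
          simp
        · rw [if_pos (Finset.mem_Ico.2 ⟨h3, heq⟩)]
          calc 5 * ((e ^ 2 - 1) * TU q (n / e)) = (e ^ 2 - 1) * (5 * TU q (n / e)) := by ring
            _ ≤ (q + 1) ^ 2 * (28 * ((q + 1) * q ^ (n / e - 1))) :=
                Nat.mul_le_mul ((Nat.sub_le _ _).trans (Nat.pow_le_pow_left (by omega) 2)) hd
            _ ≤ (q + 1) ^ 2 * (28 * ((q + 1) * q ^ (n / 3 - 1))) := by
                gcongr
                · omega
            _ = 28 * B := by ring
    · rw [← Finset.mul_sum, Finset.sum_add_distrib, Finset.sum_ite_eq', Finset.sum_ite_mem,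
        Finset.sum_const, smul_eq_mul]
      refine Nat.mul_le_mul_left _ (Nat.add_le_add (by split_ifs <;> omega) (Nat.mul_le_mul_right _ ?_))
      refine (Finset.card_le_card Finset.inter_subset_right).trans ?_
      rw [Nat.card_Ico]
      omega
  have hA : q ^ 4 * A ≤ (q + 1) * q ^ (n - 1) := by
    rw [mul_left_comm, ← pow_add]
    exact Nat.mul_le_mul_left _ (Nat.pow_le_pow_right (by omega) (by omega))
  have hB : q ^ 6 * B ≤ (q + 1) ^ 2 * ((q + 1) * q ^ (n - 1)) := by
    rw [mul_left_comm, mul_left_comm (q ^ 6) (q + 1), ← pow_add]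
    exact Nat.mul_le_mul_left _ (Nat.mul_le_mul_left _ (Nat.pow_le_pow_right (by omega) (by omega)))
  set P := (q + 1) * q ^ (n - 1)
  have key : 560 * (3 * q ^ 2 + (q - 1) * (q + 1) ^ 2) ≤ 266 * q ^ 6 := by
    obtain ⟨p, rfl⟩ : ∃ p, q = p + 1 := ⟨q - 1, by omega⟩
    rw [Nat.add_sub_cancel]
    have h3 : p * (p + 1 + 1) ^ 2 ≤ (p + 1) ^ 3 + (p + 1) ^ 2 := by nlinarith
    have h4 : 2 ^ 3 * (p + 1) ^ 3 ≤ (p + 1) ^ 6 := by
      rw [show (p + 1) ^ 6 = (p + 1) ^ 3 * (p + 1) ^ 3 by ring]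
      exact Nat.mul_le_mul_right _ (Nat.pow_le_pow_left hq 3)
    have h5 : 2 ^ 4 * (p + 1) ^ 2 ≤ (p + 1) ^ 6 := by
      rw [show (p + 1) ^ 6 = (p + 1) ^ 4 * (p + 1) ^ 2 by ring]
      exact Nat.mul_le_mul_right _ (Nat.pow_le_pow_left hq 4)
    omega
  refine Nat.le_of_mul_le_mul_left ?_ (show 0 < q ^ 6 by positivity)
  calc q ^ 6 * (100 * EU q n) = 20 * q ^ 6 * (5 * EU q n) := by ring
    _ ≤ 20 * q ^ 6 * (28 * (3 * A + (q - 1) * B)) := Nat.mul_le_mul_left _ h1
    _ = 560 * (3 * q ^ 2 * (q ^ 4 * A) + (q - 1) * (q ^ 6 * B)) := by ring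
    _ ≤ 560 * (3 * q ^ 2 * P + (q - 1) * ((q + 1) ^ 2 * P)) :=
        Nat.mul_le_mul_left _ (Nat.add_le_add (Nat.mul_le_mul_left _ hA) (Nat.mul_le_mul_left _ hB))
    _ = 560 * (3 * q ^ 2 + (q - 1) * (q + 1) ^ 2) * P := by ring
    _ ≤ 266 * q ^ 6 * P := Nat.mul_le_mul_right _ key
    _ = q ^ 6 * (266 * P) := by ring

theorem EU_le_small {q n : ℕ} (hq : 2 ≤ q) (hn : 2 ≤ n) (hn' : n ≤ 7) :
    100 * EU q n ≤ 266 * ((q + 1) * q ^ (n - 1)) := by
  have hs : ∀ T : Finset ℕ, n.divisors ⊆ T →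
      EU q n ≤ ∑ e ∈ T, (e ^ 2 - 1) * TU q (n / e) := fun T h =>
    Finset.sum_le_sum_of_subset ((Nat.divisors_subset_of_dvd (by omega) (Nat.gcd_dvd_left _ _)).trans h)
  have hP : ∀ k : ℕ, 2 ^ k * (q + 1) ≤ (q + 1) * q ^ k := fun k => by
    rw [mul_comm]; exact Nat.mul_le_mul_left _ (Nat.pow_le_pow_left hq k)
  interval_cases n
  · have := hs {1, 2} (by decide)
    rw [Finset.sum_pair (by decide)] at this
    norm_num [TU_one] at this ⊢
    have := hP 1
    norm_num at this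
    omega
  · have := hs {1, 3} (by decide)
    rw [Finset.sum_pair (by decide)] at this
    norm_num [TU_one] at this ⊢
    have := hP 2
    norm_num at this
    omega
  · rcases Nat.lt_or_ge q 3 with h | h
    · obtain rfl : q = 2 := by omega
      rw [EU, show Nat.gcd 4 (2 + 1) = 1 from rfl, Nat.divisors_one, Finset.sum_singleton]
      norm_num
    · have := hs {1, 2, 4} (by decide)
      rw [Finset.sum_insert (by decide), Finset.sum_pair (by decide)] at this
      norm_num [TU_one, TU_two] at this ⊢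
      refine (Nat.mul_le_mul_left 100 this).trans ?_
      obtain ⟨p, rfl⟩ : ∃ p, q = p + 3 := ⟨q - 3, by omega⟩
      ring_nf
      nlinarith
  · have := hs {1, 5} (by decide)
    rw [Finset.sum_pair (by decide)] at this
    norm_num [TU_one] at this ⊢
    have := hP 4
    norm_num at this
    omega
  · have := hs {1, 2, 3, 6} (by decide)
    rw [Finset.sum_insert (by decide), Finset.sum_insert (by decide), Finset.sum_pair (by decide)] at this
    norm_num [TU_one, TU_two, TU_three] at this ⊢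
    refine (Nat.mul_le_mul_left 100 this).trans ?_
    obtain ⟨p, rfl⟩ : ∃ p, q = p + 2 := ⟨q - 2, by omega⟩
    ring_nf
    have h : ∀ k, 0 ≤ p ^ k := fun k => Nat.zero_le _
    linarith [Nat.zero_le p, h 2, h 3, h 4, h 5, h 6]
  · have := hs {1, 7} (by decide)
    rw [Finset.sum_pair (by decide)] at this
    norm_num [TU_one] at this ⊢
    have := hP 6
    norm_num at this
    omega

theorem UU_le {q n : ℕ} (hq : 2 ≤ q) (hn : 2 ≤ n) : 100 * UU q n ≤ 826 * ((q + 1) * q ^ (n - 1)) := by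
  have h1 := TU_le hq (show 1 ≤ n by omega)
  have h2 : 100 * EU q n ≤ 266 * ((q + 1) * q ^ (n - 1)) := by
    rcases Nat.lt_or_ge n 8 with h | h
    · exact EU_le_small hq hn (by omega)
    · exact EU_le_large hq h
  rw [UU, ← EU]
  omega

universe u

variable {K : Type u} [Field K] [Fintype K]

omit [Fintype K] in
theorem companion_apply {n : ℕ} (g : K[X]) (hg : g.Monic) (hn : g.natDegree = n) (i j : Fin n) :
    companion g hg hn i j = if (j : ℕ) + 1 = n then -g.coeff i else if (i : ℕ) = j + 1 then 1 else 0 := by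
  subst hn
  have h := congrFun (congrFun (PowerBasis.leftMulMatrix (AdjoinRoot.powerBasis' hg)) i) j
  rw [PowerBasis.minpolyGen_eq] at h
  simp only [AdjoinRoot.powerBasis'_gen, AdjoinRoot.powerBasis'_dim, AdjoinRoot.minpoly_root hg.ne_zero,
    hg.leadingCoeff, inv_one, map_one, mul_one] at h
  exact h

omit [Fintype K] in
theorem companion_map {n : ℕ} (σ : K →+* K) {g g' : K[X]} (hg : g.Monic) (hn : g.natDegree = n)
    (hg' : g'.Monic) (hn' : g'.natDegree = n) (h : g.map σ = g') :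
    (companion g hg hn).map σ = companion g' hg' hn' := by
  subst h
  ext i j
  rw [Matrix.map_apply, companion_apply, companion_apply, coeff_map]
  split_ifs <;> simp

/-- The power basis of `AdjoinRoot g` indexed by `Fin n`. -/
noncomputable def compBasis {n : ℕ} (g : K[X]) (hg : g.Monic) (hn : g.natDegree = n) :
    Module.Basis (Fin n) K (AdjoinRoot g) :=
  (AdjoinRoot.powerBasisAux' hg).reindex (finCongr hn)

omit [Fintype K] in
theorem companion_eq_toMatrix {n : ℕ} (g : K[X]) (hg : g.Monic) (hn : g.natDegree = n) :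
    companion g hg hn = LinearMap.toMatrix (compBasis g hg hn) (compBasis g hg hn)
      (Algebra.lmul K (AdjoinRoot g) (AdjoinRoot.root g)) := by
  ext i j
  simp [companion, compBasis, Algebra.leftMulMatrix_apply, LinearMap.toMatrix_apply]

variable {q : ℕ} (hK : Fintype.card K = q ^ 2)

include hK in
theorem exists_gu_of_selfTwist {n : ℕ} (g : Mon K n) (hs : SelfTwist (powHom hK) g.1) :
    ∃ B : ↥(Cfsg.GU n K q),
      ((B : GL (Fin n) K) : Matrix (Fin n) (Fin n) K).charpoly = g.1 := by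
  obtain ⟨g, hg, hn, h0⟩ := g
  set σ := powHom hK
  have hn' : (recipPoly g).natDegree = n := (natDegree_recipPoly h0).trans hn
  have hg' := monic_recipPoly h0
  obtain ⟨θ, hθ⟩ := exists_recip_equiv hg h0 rfl
  set A := companion g hg hn
  set M := companion (recipPoly g) hg' hn'
  have hd : A.det ≠ 0 := by
    rw [det_companion]
    exact mul_ne_zero (pow_ne_zero _ (neg_ne_zero.2 one_ne_zero)) h0
  let a : GL (Fin n) K := Matrix.GeneralLinearGroup.mkOfDetNeZero A hd
  let m : GL (Fin n) K := Units.map σ.mapMatrix.toMonoidHom a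
  have hm : (m : Matrix (Fin n) (Fin n) K) = M := companion_map σ hg hn hg' hn' hs
  let b := compBasis g hg hn
  let b' := compBasis (recipPoly g) hg' hn'
  let y : GL (Fin n) K :=
    ⟨LinearMap.toMatrix b b' θ.toLinearMap, LinearMap.toMatrix b' b θ.symm.toLinearMap,
      by rw [← LinearMap.toMatrix_comp b' b b']; rw [show θ.toLinearMap ∘ₗ θ.symm.toLinearMap = LinearMap.id from
        LinearMap.ext θ.apply_symm_apply, LinearMap.toMatrix_id],
      by rw [← LinearMap.toMatrix_comp b b' b]; rw [show θ.symm.toLinearMap ∘ₗ θ.toLinearMap = LinearMap.id from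
        LinearMap.ext θ.symm_apply_apply, LinearMap.toMatrix_id]⟩
  have hy : m * y * a = y := Units.ext (by
    show (m : Matrix (Fin n) (Fin n) K) * LinearMap.toMatrix b b' θ.toLinearMap * A = LinearMap.toMatrix b b' θ.toLinearMap
    rw [hm, show M = _ from companion_eq_toMatrix _ hg' hn', show A = _ from companion_eq_toMatrix g hg hn,
      ← LinearMap.toMatrix_comp b b' b', ← LinearMap.toMatrix_comp b b b']
    congr 1
    refine LinearMap.ext fun v => ?_
    show AdjoinRoot.root (recipPoly g) * θ (AdjoinRoot.root g * v) = θ v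
    rw [map_mul, ← mul_assoc, hθ, one_mul])
  have h1 : IsConj a m⁻¹ := isConj_iff.2 ⟨y, by
    rw [mul_inv_eq_iff_eq_mul, eq_inv_mul_iff_mul_eq, ← mul_assoc]
    exact hy⟩
  have h2 : IsConj m (ustar σ a) := isConj_of_transpose rfl
  obtain ⟨c, hc⟩ := isConj_iff.1 h2
  obtain ⟨B, hB⟩ := (exists_gu_conj_iff hK a).2
    (h1.trans (isConj_iff.2 ⟨c, by rw [← hc]; group⟩))
  refine ⟨B, ?_⟩
  obtain ⟨x, hx⟩ := isConj_iff.1 hB
  show _ = g
  rw [← charpoly_companion g hg hn, ← hx, Units.val_mul, Units.val_mul, Matrix.coe_units_inv,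
    Matrix.charpoly_units_conj]
  rfl

include hK in
theorem le_card_fixed : q ≤ Nat.card {x : K // powHom hK x = x} := by
  have hq := two_le_of_card_sq hK
  have hk : Nat.card (powMonoidHom (q - 1) : Kˣ →* Kˣ).ker = q - 1 := by
    rw [IsCyclic.card_powMonoidHom_ker, Nat.card_units, Nat.card_eq_fintype_card, hK]
    refine Nat.gcd_eq_right ⟨q + 1, ?_⟩
    have h := Nat.sq_sub_sq q 1
    rw [one_pow] at h
    rw [h, mul_comm]
  let f : Option (powMonoidHom (q - 1) : Kˣ →* Kˣ).ker → {x : K // powHom hK x = x} := fun o =>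
    o.elim ⟨0, map_zero _⟩ fun u => ⟨((u.1 : Kˣ) : K), by
      have h := congrArg (fun v : Kˣ => (v : K)) (MonoidHom.mem_ker.1 u.2)
      simp only [powMonoidHom_apply, Units.val_pow_eq_pow_val, Units.val_one] at h
      refine (powHom_apply hK _).trans (Eq.trans ?_ (one_mul _))
      rw [← h, ← pow_succ]
      congr 1
      omega⟩
  have hf : Function.Injective f := by
    rintro (_ | u) (_ | v) h
    · rfl
    · exact absurd (congrArg Subtype.val h).symm v.1.ne_zero
    · exact absurd (congrArg Subtype.val h) u.1.ne_zero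
    · exact congrArg some (Subtype.ext (Units.ext (congrArg Subtype.val h)))
  have h := Nat.card_le_card_of_injective f hf
  rw [Finite.card_option, hk] at h
  omega

include hK in
theorem lower_su (n : ℕ) (hn : 2 ≤ n) : q ^ (n - 1) ≤ Nat.card (ConjClasses ↥(Cfsg.SU n K q)) := by
  have hq := two_le_of_card_sq hK
  obtain ⟨m, rfl⟩ : ∃ m, n = m + 1 := ⟨n - 1, by omega⟩
  rw [Nat.add_sub_cancel]
  set σ := powHom hK
  let δ : K := (-1) ^ (m + 1)
  have hδ : δ⁻¹ = δ := by rw [← inv_pow, inv_neg_one]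
  have hσδ : σ δ = δ := by rw [map_pow, map_neg, map_one]
  have hδ2 : δ * δ = 1 := by rw [← pow_add, ← two_mul, pow_mul, neg_one_sq, one_pow]
  have hδeven : 2 ∣ m + 1 → δ = 1 := fun h => by
    obtain ⟨k, hk⟩ := h
    show (-1 : K) ^ (m + 1) = 1
    rw [hk, pow_mul, neg_one_sq, one_pow]
  let Z := {x : K // σ x = x}
  let P := (Fin (m / 2) → K) × (Fin (m % 2) → Z)
  let cf : P → Fin m → K := fun p i =>
    if h : (i : ℕ) < m / 2 then p.1 ⟨i, h⟩
    else if h' : m - 1 - (i : ℕ) < m / 2 then δ * σ (p.1 ⟨m - 1 - i, h'⟩)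
    else (p.2 ⟨0, by have := i.2; omega⟩).1
  have hcf : ∀ p (i i' : Fin m), (i : ℕ) + i' + 1 = m → σ (cf p i) = δ * cf p i' := fun p i i' hii => by
    by_cases h : (i : ℕ) < m / 2
    · have h2 : ¬ (i' : ℕ) < m / 2 := by omega
      have h3 : m - 1 - (i' : ℕ) < m / 2 := by omega
      simp only [cf, dif_pos h, dif_neg h2, dif_pos h3]
      rw [← mul_assoc, hδ2, one_mul,
        show (⟨i, h⟩ : Fin (m / 2)) = ⟨m - 1 - i', h3⟩ from Fin.ext (by simp only; omega)]
    · by_cases h' : m - 1 - (i : ℕ) < m / 2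
      · have h2 : (i' : ℕ) < m / 2 := by omega
        simp only [cf, dif_neg h, dif_pos h', dif_pos h2]
        rw [map_mul, hσδ, (powHom_isInvol hK).invol,
          show (⟨m - 1 - i, h'⟩ : Fin (m / 2)) = ⟨i', h2⟩ from Fin.ext (by simp only; omega)]
      · have h2 : ¬ (i' : ℕ) < m / 2 := by omega
        have h3 : ¬ m - 1 - (i' : ℕ) < m / 2 := by omega
        simp only [cf, dif_neg h, dif_neg h', dif_neg h2, dif_neg h3]
        rw [(p.2 _).2, hδeven (by omega), one_mul]
  let g : P → Mon K (m + 1) := fun p =>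
    ⟨slPoly K δ (cf p), (slPoly_spec K δ (cf p)).1, (slPoly_spec K δ (cf p)).2.1,
      by rw [(slPoly_spec K δ (cf p)).2.2.1]; exact pow_ne_zero _ (neg_ne_zero.2 one_ne_zero)⟩
  have hs : ∀ p, SelfTwist σ (g p).1 := fun p => by
    obtain ⟨hmon, hdeg, hc0, hci⟩ := slPoly_spec K δ (cf p)
    refine Polynomial.ext fun k => ?_
    show ((slPoly K δ (cf p)).map σ).coeff k = (recipPoly (slPoly K δ (cf p))).coeff k
    rw [coeff_map]
    have hlead : (slPoly K δ (cf p)).coeff (m + 1) = 1 := hdeg ▸ hmon.coeff_natDegree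
    rcases lt_or_ge (m + 1) k with hk | hk
    · rw [coeff_eq_zero_of_natDegree_lt (by omega), map_zero, coeff_eq_zero_of_natDegree_lt]
      rw [natDegree_recipPoly (by rw [hc0]; exact pow_ne_zero _ (neg_ne_zero.2 one_ne_zero)), hdeg]
      exact hk
    rw [coeff_recipPoly _ (by omega), hdeg, hc0, hδ]
    rcases Nat.eq_zero_or_pos k with rfl | hk0
    · rw [hc0, hσδ, Nat.sub_zero, hlead, mul_one]
    rcases hk.lt_or_eq with hk | rfl
    · have e1 := hci ⟨k - 1, by omega⟩
      have e2 := hci ⟨m - k, by omega⟩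
      rw [show k - 1 + 1 = k by omega] at e1
      rw [show m - k + 1 = m + 1 - k by omega] at e2
      rw [e1, e2]
      exact hcf p _ _ (by simp only; omega)
    · rw [hlead, map_one, Nat.sub_self, hc0, hδ2]
  choose B hB using fun p => exists_gu_of_selfTwist hK (g p) (hs p)
  have hdet : ∀ p, ((B p : GL (Fin (m + 1)) K) : Matrix (Fin (m + 1)) (Fin (m + 1)) K).det = 1 := fun p => by
    rw [Matrix.det_eq_sign_charpoly_coeff, hB, Fintype.card_fin]
    show δ * (slPoly K δ (cf p)).coeff 0 = 1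
    rw [(slPoly_spec K δ (cf p)).2.2.1, hδ2]
  let s : P → ↥(Cfsg.SU (m + 1) K q) := fun p =>
    ⟨⟨_, hdet p⟩, (B p).2⟩
  have hinj : Function.Injective fun p => ConjClasses.mk (s p) := fun p p' h => by
    have h' := congrArg (fun C => classCharpoly (ConjClasses.map
      (Matrix.SpecialLinearGroup.toGL.comp (Cfsg.SU (m + 1) K q).subtype) C)) h
    have h'' : (g p).1 = (g p').1 := by
      rw [← hB, ← hB]
      exact h'
    have hc : cf p = cf p' := funext fun i => by
      rw [← (slPoly_spec K δ (cf p)).2.2.2 i, ← (slPoly_spec K δ (cf p')).2.2.2 i]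
      exact congrArg (fun f : K[X] => f.coeff _) h''
    refine Prod.ext (funext fun k => ?_) (funext fun k => ?_)
    · have := congrFun hc ⟨k, by have := k.2; omega⟩
      simpa [cf] using this
    · have := congrFun hc ⟨m / 2, by have := k.2; omega⟩
      simp only [cf, lt_irrefl, dite_false, dif_neg (show ¬ m - 1 - m / 2 < m / 2 by have := k.2; omega)] at this
      have hk : k = ⟨0, by have := k.2; omega⟩ := Fin.ext (by have := k.2; simp only; omega)
      exact hk ▸ Subtype.ext this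
  refine le_trans ?_ (Nat.card_le_card_of_injective _ hinj)
  rw [Nat.card_prod, Nat.card_fun, Nat.card_fun, Nat.card_fin, Nat.card_fin, Nat.card_eq_fintype_card (α := K), hK]
  refine le_trans (le_of_eq ?_) (Nat.mul_le_mul_left _ (Nat.pow_le_pow_left (le_card_fixed hK) _))
  rw [← pow_mul, ← pow_add, Nat.div_add_mod]

include hK in
theorem upper_su (n : ℕ) (hn : 2 ≤ n) :
    100 * Nat.card (ConjClasses ↥(Cfsg.SU n K q)) ≤ 826 * q ^ (n - 1) := by
  have hq := two_le_of_card_sq hK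
  refine Nat.le_of_mul_le_mul_left ?_ (show 0 < q + 1 by omega)
  have h1 := card_su_classes_le hK (n := n)
  have h2 := UU_le hq hn
  calc (q + 1) * (100 * _) = 100 * ((q + 1) * Nat.card (ConjClasses ↥(Cfsg.SU n K q))) := by ring
    _ ≤ 100 * UU q n := Nat.mul_le_mul_left _ h1
    _ ≤ _ := h2
    _ = _ := by ring

end CfsgLib.ClassNumber
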