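import Cfsg.Agent.Lib.ClassCount.Unitary.Classes

/-!
# Counting twist-fixed tuples with prescribed product of constant terms
-/

set_option autoImplicit false

open Polynomial Matrix
open scoped Classical
open CfsgLib.Classical CfsgLib.Classical.Herm CfsgLib.Classical.ClassTheory

namespace CfsgLib.ClassNumber

/-- The number of twist-fixed monic polynomials of degree `a`. -/
def cU (q a : ℕ) : ℕ := if a = 0 then 1 else (q + 1) * q ^ (a - 1)

/-- The number of twist-fixed tuples of length `n`. -/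
noncomputable def TU (q n : ℕ) : ℕ := ∑ m ∈ sol n 1 n, ∏ i, cU q (m i)

/-- The bound for `(q + 1)` times the class number of `SU`. -/
noncomputable def UU (q n : ℕ) : ℕ :=
  TU q n + ∑ e ∈ (Nat.gcd n (q + 1)).divisors, (e ^ 2 - 1) * TU q (n / e)

universe u

variable {K : Type u} [Field K] [Fintype K] {q : ℕ} (hK : Fintype.card K = q ^ 2)

include hK in
theorem card_fixed_le (δ : K) : Nat.card {x : K // powHom hK x = δ⁻¹ * x} ≤ q := by
  have hq := two_le_of_card_sq hK
  set P : K[X] := X ^ q - C δ⁻¹ * X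
  have hd : P.natDegree = q := by
    rw [natDegree_sub_eq_left_of_natDegree_lt, natDegree_X_pow]
    rw [natDegree_X_pow]
    exact lt_of_le_of_lt ((natDegree_C_mul_le _ _).trans natDegree_X_le) hq
  have h0 : P ≠ 0 := fun h => by rw [h, natDegree_zero] at hd; omega
  rw [Nat.card_eq_fintype_card, Fintype.card_subtype]
  refine le_trans ?_ hd.le
  refine (Finset.card_le_card fun x hx => ?_).trans ((Multiset.toFinset_card_le _).trans (card_roots' P))
  rw [Multiset.mem_toFinset, mem_roots h0, IsRoot.def, eval_sub, eval_pow, eval_mul, eval_C, eval_X, sub_eq_zero]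
  have := (Finset.mem_filter.1 hx).2
  rwa [powHom_apply] at this

include hK in
theorem card_self_fibre_le (a : ℕ) (δ : K) :
    Nat.card {g : Mon K a // SelfTwist (powHom hK) g.1 ∧ g.1.coeff 0 = δ} ≤ q ^ (a - 1) := by
  rcases Nat.eq_zero_or_pos a with rfl | ha
  · have : Subsingleton {g : Mon K 0 // SelfTwist (powHom hK) g.1 ∧ g.1.coeff 0 = δ} := ⟨fun g h =>
      Subtype.ext (Subtype.ext (by
        rw [(g.1.2.1.natDegree_eq_zero).1 g.1.2.2.1, (h.1.2.1.natDegree_eq_zero).1 h.1.2.2.1]))⟩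
    exact Finite.card_le_one_iff_subsingleton.2 this
  have hrel : ∀ (g : {g : Mon K a // SelfTwist (powHom hK) g.1 ∧ g.1.coeff 0 = δ}) (j : ℕ), j ≤ a →
      powHom hK (g.1.1.coeff j) = δ⁻¹ * g.1.1.coeff (a - j) := fun g j hj => by
    have h := congrArg (fun P : K[X] => P.coeff j) g.2.1
    simp only [coeff_map] at h
    rw [h, coeff_recipPoly _ (by rw [g.1.2.2.1]; exact hj), g.2.2, g.1.2.2.1]
  let Z := {x : K // powHom hK x = δ⁻¹ * x}
  let f : {g : Mon K a // SelfTwist (powHom hK) g.1 ∧ g.1.coeff 0 = δ} →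
      (Fin ((a - 1) / 2) → K) × (Fin ((a + 1) % 2) → Z) := fun g =>
    (fun k => g.1.1.coeff ((k : ℕ) + 1), fun k => ⟨g.1.1.coeff (a / 2), by
      have := hrel g (a / 2) (Nat.div_le_self _ _)
      rwa [show a - a / 2 = a / 2 by have := k.2; omega] at this⟩)
  have hf : Function.Injective f := fun g g' h => by
    have hlow : ∀ j, 0 < j → 2 * j < a → g.1.1.coeff j = g'.1.1.coeff j := fun j h1 h2 => by
      have := congrFun (congrArg Prod.fst h) ⟨j - 1, by omega⟩
      simpa [f, show j - 1 + 1 = j by omega] using this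
    refine Subtype.ext (Subtype.ext (Polynomial.ext fun j => ?_))
    rcases Nat.eq_zero_or_pos j with rfl | hj
    · rw [g.2.2, g'.2.2]
    rcases lt_trichotomy j a with hja | rfl | hja
    · rcases lt_trichotomy (2 * j) a with h2 | h2 | h2
      · exact hlow j hj h2
      · have := congrFun (congrArg Prod.snd h) ⟨0, by omega⟩
        simpa [f, show a / 2 = j by omega] using congrArg Subtype.val this
      · have e := hrel g (a - j) (Nat.sub_le _ _)
        rw [hlow (a - j) (by omega) (by omega), hrel g' (a - j) (Nat.sub_le _ _), Nat.sub_sub_self hja.le] at e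
        exact (mul_left_cancel₀ (inv_ne_zero (g.2.2 ▸ g.1.2.2.2)) e).symm
    · have h1 := g.1.2.1.coeff_natDegree
      have h2 := g'.1.2.1.coeff_natDegree
      rw [g.1.2.2.1] at h1
      rw [g'.1.2.2.1] at h2
      rw [h1, h2]
    · rw [coeff_eq_zero_of_natDegree_lt (by rw [g.1.2.2.1]; exact hja),
        coeff_eq_zero_of_natDegree_lt (by rw [g'.1.2.2.1]; exact hja)]
  refine (Nat.card_le_card_of_injective f hf).trans ?_
  rw [Nat.card_prod, Nat.card_fun, Nat.card_fun, Nat.card_fin, Nat.card_fin, Nat.card_eq_fintype_card (α := K), hK]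
  refine (Nat.mul_le_mul_left _ (Nat.pow_le_pow_left (card_fixed_le hK δ) _)).trans (le_of_eq ?_)
  rw [← pow_mul, ← pow_add]
  congr 1
  omega

include hK in
theorem card_self_pi_fibre_le {n : ℕ} (m : Fin n → ℕ) (δ : K) :
    (q + 1) * Nat.card {b : ∀ i, Mon K (m i) //
        (∀ i, SelfTwist (powHom hK) (b i).1) ∧ ∏ i : Fin n, (b i).1.coeff 0 ^ (1 + (i : ℕ)) = δ} ≤
      gg (q + 2) m * ∏ i, cU q (m i) := by
  have hq := two_le_of_card_sq hK
  set R := (powMonoidHom (q + 1) : Kˣ →* Kˣ).ker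
  have hR : Nat.card R = q + 1 := by
    rw [IsCyclic.card_powMonoidHom_ker, Nat.card_units, Nat.card_eq_fintype_card, hK]
    refine Nat.gcd_eq_right ?_
    obtain ⟨p, rfl⟩ : ∃ p, q = p + 1 := ⟨q - 1, by omega⟩
    exact ⟨p, by rw [Nat.sub_eq_iff_eq_add (Nat.one_le_pow _ _ (by omega))]; ring⟩
  let φ : ({i : Fin n // m i ≠ 0} → R) →* R :=
    { toFun := fun x => ∏ i, x i ^ (1 + (i.1 : ℕ))
      map_one' := by simp
      map_mul' := fun x y => by simp [mul_pow, Finset.prod_mul_distrib] }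
  have hrange : q + 1 ≤ gg (q + 2) m * Nat.card φ.range := by
    rw [← hR]
    refine le_mul_card_of_pow_mem _ (hR ▸ (Nat.gcd_dvd_left _ _ : gg (q + 2) m ∣ q + 1)) ?_
    have hclose : ∀ a b : ℕ, (∀ x : R, x ^ a ∈ φ.range) → (∀ x : R, x ^ b ∈ φ.range) →
        ∀ x : R, x ^ Nat.gcd a b ∈ φ.range := fun a b ha hb x => by
      rw [← _root_.zpow_natCast, Nat.gcd_eq_gcd_ab, _root_.zpow_add, _root_.zpow_mul, _root_.zpow_mul,
        _root_.zpow_natCast, _root_.zpow_natCast]
      exact mul_mem (zpow_mem (ha x) _) (zpow_mem (hb x) _)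
    refine hclose _ _ (fun x => ?_) (Finset.univ.induction_on ?_ ?_)
    · show x ^ (q + 1) ∈ _
      rw [← hR, pow_card_eq_one']
      exact one_mem _
    · intro x
      simp
    · intro i s _ ih x
      rw [Finset.gcd_insert]
      refine hclose _ _ (fun x => ?_) ih x
      by_cases hi : m i = 0
      · simp [hi]
      · rw [if_neg hi]
        refine ⟨Pi.mulSingle ⟨i, hi⟩ x, ?_⟩
        show ∏ j, Pi.mulSingle (M := fun _ => R) (⟨i, hi⟩ : {i : Fin n // m i ≠ 0}) x j ^ (1 + (j.1 : ℕ)) = _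
        rw [Finset.prod_eq_single ⟨i, hi⟩ (fun j _ hj => by simp [hj]) (by simp), Pi.mulSingle_eq_same]
  let S := {x : {i : Fin n // m i ≠ 0} → R // ((φ x : Kˣ) : K) = δ}
  have hS : (q + 1) * Nat.card S ≤ gg (q + 2) m * (q + 1) ^ Fintype.card {i : Fin n // m i ≠ 0} := by
    rcases isEmpty_or_nonempty S with he | ⟨⟨x₀⟩⟩
    · simp
    have hk : Nat.card S ≤ Nat.card φ.ker := by
      refine Nat.card_le_card_of_injective (fun x => ⟨x.1 * x₀.1⁻¹, ?_⟩) fun x y h => ?_
      · rw [MonoidHom.mem_ker, map_mul, map_inv, mul_inv_eq_one]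
        exact Subtype.ext (Units.ext (x.2.trans x₀.2.symm))
      · exact Subtype.ext (mul_right_cancel (Subtype.ext_iff.1 h :))
    have hc : Nat.card φ.range * Nat.card φ.ker = (q + 1) ^ Fintype.card {i : Fin n // m i ≠ 0} := by
      rw [← Subgroup.index_ker, mul_comm, Subgroup.card_mul_index, Nat.card_fun, hR, Nat.card_eq_fintype_card]
    calc (q + 1) * Nat.card S ≤ gg (q + 2) m * Nat.card φ.range * Nat.card φ.ker := Nat.mul_le_mul hrange hk
      _ = _ := by rw [mul_assoc, hc]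
  have hn : ∀ (b : ∀ i, Mon K (m i)), (∀ i, SelfTwist (powHom hK) (b i).1) → ∀ i, m i ≠ 0 →
      (Units.mk0 _ (b i).2.2.2 : Kˣ) ∈ R := fun b hb i _ => by
    rw [MonoidHom.mem_ker, powMonoidHom_apply]
    refine Units.ext ?_
    have h := congrArg (fun P : K[X] => P.coeff 0) (hb i)
    simp only [coeff_map, coeff_zero_recipPoly (b i).2.1, powHom_apply] at h
    rw [Units.val_pow_eq_pow_val, Units.val_one, Units.val_mk0, pow_succ, h, inv_mul_cancel₀ (b i).2.2.2]
  let f : {b : ∀ i, Mon K (m i) //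
      (∀ i, SelfTwist (powHom hK) (b i).1) ∧ ∏ i : Fin n, (b i).1.coeff 0 ^ (1 + (i : ℕ)) = δ} → S := fun b =>
    ⟨fun i => ⟨Units.mk0 _ (b.1 i.1).2.2.2, hn b.1 b.2.1 i.1 i.2⟩, by
      refine Eq.trans ?_ b.2.2
      show ((∏ i : {i : Fin n // m i ≠ 0}, (⟨Units.mk0 _ (b.1 i.1).2.2.2, hn b.1 b.2.1 i.1 i.2⟩ : R) ^
        (1 + (i.1 : ℕ)) : R) : Kˣ).val = _
      rw [Subgroup.val_finset_prod, Units.coe_prod]
      refine Fintype.prod_of_injective Subtype.val Subtype.val_injective _ _ (fun i hi => ?_) fun i => by simp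
      have hmi : m i = 0 := by
        by_contra h
        exact hi ⟨⟨i, h⟩, rfl⟩
      rw [((b.1 i).2.1.natDegree_eq_zero).1 ((b.1 i).2.2.1.trans hmi), coeff_one_zero, one_pow]⟩
  haveI : Fintype S := Fintype.ofFinite _
  have hfib : ∀ x : S, Nat.card {b // f b = x} ≤ ∏ i, q ^ (m i - 1) := fun x => by
    let d : Fin n → K := fun i => if hi : m i ≠ 0 then ((x.1 ⟨i, hi⟩ : Kˣ) : K) else 1
    refine le_trans (Nat.card_le_card_of_injective
      (fun b : {b // f b = x} => fun i =>
        (⟨b.1.1 i, b.1.2.1 i, ?_⟩ : {g : Mon K (m i) // SelfTwist (powHom hK) g.1 ∧ g.1.coeff 0 = d i}))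
      fun b b' h => Subtype.ext (Subtype.ext (funext fun i => (Subtype.ext_iff.1 (congrFun h i) :)))) ?_
    · by_cases hi : m i = 0
      · simp only [d, dif_neg (not_not.2 hi)]
        rw [((b.1.1 i).2.1.natDegree_eq_zero).1 ((b.1.1 i).2.2.1.trans hi), coeff_one_zero]
      · simp only [d, dif_pos hi]
        exact congrArg (fun x : S => ((x.1 ⟨i, hi⟩ : Kˣ) : K)) b.2
    · rw [Nat.card_pi]
      exact Finset.prod_le_prod' fun i _ => card_self_fibre_le hK (m i) (d i)
  have hcard : Nat.card {b : ∀ i, Mon K (m i) //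
      (∀ i, SelfTwist (powHom hK) (b i).1) ∧ ∏ i : Fin n, (b i).1.coeff 0 ^ (1 + (i : ℕ)) = δ} ≤
      Nat.card S * ∏ i, q ^ (m i - 1) := by
    rw [← Nat.card_congr (Equiv.sigmaFiberEquiv f), Nat.card_sigma, Nat.card_eq_fintype_card (α := S)]
    exact (Finset.sum_le_card_nsmul _ _ _ fun x _ => hfib x).trans (le_of_eq (smul_eq_mul _ _))
  refine (Nat.mul_le_mul_left _ hcard).trans ?_
  rw [← mul_assoc]
  refine (Nat.mul_le_mul_right _ hS).trans (le_of_eq ?_)
  rw [mul_assoc, Fintype.card_subtype, ← Finset.prod_const, Finset.prod_filter, ← Finset.prod_mul_distrib]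
  congr 1
  refine Finset.prod_congr rfl fun i _ => ?_
  by_cases hi : m i = 0 <;> simp [cU, hi]

include hK in
theorem sigma_le_UU {n : ℕ} :
    (q + 1) * Nat.card (Σ t : STup (powHom hK) n, Fin (gg (q + 2) t.1.deg)) ≤ UU q n := by
  have hq := two_le_of_card_sq hK
  haveI : Fintype (STup (powHom hK) n) := Fintype.ofFinite _
  have hA : (q + 1) * Nat.card (Σ t : STup (powHom hK) n, Fin (gg (q + 2) t.1.deg)) ≤
      ∑ m ∈ sol n 1 n, gg (q + 2) m ^ 2 * ∏ i, cU q (m i) := by
    rw [Nat.card_sigma]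
    simp only [Nat.card_fin]
    rw [← Finset.sum_fiberwise_of_maps_to (g := fun t : STup (powHom hK) n => t.1.deg) (t := sol n 1 n)
      (fun t _ => (mem_sol one_ne_zero _).2 t.1.2.2), Finset.mul_sum]
    refine Finset.sum_le_sum fun m _ => ?_
    rw [Finset.sum_congr rfl (g := fun _ => gg (q + 2) m) fun t ht => by rw [← (Finset.mem_filter.1 ht).2],
      Finset.sum_const, smul_eq_mul, ← Fintype.card_subtype, ← Nat.card_eq_fintype_card, sq, mul_assoc,
      ← mul_assoc (q + 1), mul_comm _ (gg (q + 2) m)]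
    refine Nat.mul_le_mul_left _ (le_trans (Nat.mul_le_mul_left _ ?_) (card_self_pi_fibre_le hK m ((-1) ^ n)))
    refine Nat.card_le_card_of_injective (fun t => ⟨fun i => ⟨t.1.1.1 i, (t.1.1.2.1 i).1, congrFun t.2 i,
      (t.1.1.2.1 i).2⟩, t.1.2.1, t.1.2.2⟩) fun t t' h => ?_
    exact Subtype.ext (Subtype.ext (Subtype.ext (funext fun i =>
      congrArg (fun g : Mon K (m i) => g.1) (congrFun (Subtype.ext_iff.1 h) i))))
  refine hA.trans ?_
  rw [Finset.sum_congr rfl (g := fun m => ∏ i, cU q (m i) + (gg (q + 2) m ^ 2 - 1) * ∏ i, cU q (m i)) fun m _ => by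
    have : 1 ≤ gg (q + 2) m ^ 2 := Nat.one_le_pow _ _ (gg_pos (by omega) _)
    rw [Nat.sub_mul, one_mul, Nat.add_sub_cancel' (Nat.le_mul_of_pos_left _ this)],
    Finset.sum_add_distrib]
  refine Nat.add_le_add_left ?_ _
  rw [← Finset.sum_fiberwise_of_maps_to (g := fun m => gg (q + 2) m) (t := (Nat.gcd n (q + 1)).divisors)]
  · refine Finset.sum_le_sum fun e he => ?_
    rw [Finset.sum_congr rfl (g := fun m => (e ^ 2 - 1) * ∏ i, cU q (m i)) fun m hm => by
      rw [(Finset.mem_filter.1 hm).2], ← Finset.mul_sum]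
    refine Nat.mul_le_mul_left _ ?_
    have he0 := Nat.pos_of_mem_divisors he
    let emb : Fin (n / e) → Fin n := fun k => ⟨e * (1 + k) - 1, by
      have : e * (1 + (k : ℕ)) ≤ e * (n / e) := Nat.mul_le_mul_left _ (by omega)
      have := Nat.mul_div_le n e
      have : 0 < e * (1 + (k : ℕ)) := Nat.mul_pos he0 (by omega)
      omega⟩
    have hemb : ∀ k, 1 + (emb k : ℕ) = e * (1 + (k : ℕ)) := fun k => by
      have : 0 < e * (1 + (k : ℕ)) := Nat.mul_pos he0 (by omega)
      simp only [emb]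
      omega
    have hinj : Function.Injective emb := fun a b h => by
      have := hemb a
      rw [h, hemb b] at this
      exact Fin.ext (by have := Nat.eq_of_mul_eq_mul_left he0 this; omega)
    have hoff : ∀ m ∈ (sol n 1 n).filter (fun m => gg (q + 2) m = e), ∀ i, i ∉ Set.range emb → m i = 0 := by
      intro m hm i hi
      by_contra h
      obtain ⟨hms, hme⟩ := Finset.mem_filter.1 hm
      obtain ⟨k, hk⟩ := hme ▸ gg_dvd_part (q + 2) m i h
      have hk0 : 1 ≤ k := by rcases Nat.eq_zero_or_pos k with rfl | h0 <;> omega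
      refine hi ⟨⟨k - 1, ?_⟩, Fin.ext ?_⟩
      · have : k ≤ n / e := by
          rw [Nat.le_div_iff_mul_le he0, mul_comm]
          omega
        omega
      · show e * (1 + (k - 1)) - 1 = (i : ℕ)
        rw [show 1 + (k - 1) = k by omega]
        omega
    rw [TU, Finset.sum_congr rfl (g := fun m : Fin n → ℕ => ∏ k, cU q (m (emb k))) fun m hm =>
      (Fintype.prod_of_injective emb hinj _ _ (fun i hi => by rw [hoff m hm i hi]; rfl) fun _ => rfl).symm,
      ← Finset.sum_image (g := fun m : Fin n → ℕ => fun k => m (emb k)) (f := fun m => ∏ k, cU q (m k))]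
    · refine Finset.sum_le_sum_of_subset fun m' hm' => ?_
      obtain ⟨m, hm, rfl⟩ := Finset.mem_image.1 hm'
      have h : ∑ i : Fin n, (1 + (i : ℕ)) * m i = ∑ k : Fin (n / e), e * ((1 + (k : ℕ)) * m (emb k)) :=
        (Fintype.sum_of_injective emb hinj _ _ (fun i hi => by rw [hoff m hm i hi, mul_zero])
          (fun k => by rw [hemb, mul_assoc])).symm
      rw [← Finset.mul_sum, (mem_sol one_ne_zero _).1 (Finset.mem_filter.1 hm).1] at h
      exact (mem_sol one_ne_zero _).2 (Nat.div_eq_of_eq_mul_right he0 h).symm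
    · intro m hm m' hm' h
      funext i
      by_cases hi : i ∈ Set.range emb
      · obtain ⟨k, rfl⟩ := hi
        exact congrFun h k
      · rw [hoff m hm i hi, hoff m' hm' i hi]
  · intro m hm
    refine Nat.mem_divisors.2 ⟨Nat.dvd_gcd ?_ (Nat.gcd_dvd_left _ _), Nat.gcd_ne_zero_right (Nat.succ_ne_zero q)⟩
    conv_rhs => rw [← (mem_sol one_ne_zero _).1 hm]
    refine Finset.dvd_sum fun i _ => ?_
    by_cases h : m i = 0
    · simp [h]
    · exact (gg_dvd_part (q + 2) m i h).mul_right _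

include hK in
theorem card_su_classes_le {n : ℕ} : (q + 1) * Nat.card (ConjClasses ↥(Cfsg.SU n K q)) ≤ UU q n :=
  (Nat.mul_le_mul_left _ (card_su_classes_le_sigma hK)).trans (sigma_le_UU hK)

end CfsgLib.ClassNumber
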