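import Cfsg.Agent.Lib.ClassCount.Linear.Classes

/-!
# Decompositions of an inverse and of a semilinear twist
-/

set_option autoImplicit false

open Polynomial Matrix
open scoped Classical

namespace CfsgLib.ClassNumber

universe u

variable {F : Type u} [Field F]

/-- The monic reciprocal. -/
noncomputable def recipPoly (g : F[X]) : F[X] := C (g.coeff 0)⁻¹ * g.reverse

theorem natDegree_recipPoly {g : F[X]} (h : g.coeff 0 ≠ 0) : (recipPoly g).natDegree = g.natDegree := by
  rw [recipPoly, natDegree_C_mul (inv_ne_zero h), reverse_natDegree, natTrailingDegree_eq_zero.2 (Or.inr h),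
    Nat.sub_zero]

theorem coeff_recipPoly (g : F[X]) {k : ℕ} (hk : k ≤ g.natDegree) :
    (recipPoly g).coeff k = (g.coeff 0)⁻¹ * g.coeff (g.natDegree - k) := by
  rw [recipPoly, coeff_C_mul, coeff_reverse, revAt_le hk]

theorem monic_recipPoly {g : F[X]} (h : g.coeff 0 ≠ 0) : (recipPoly g).Monic := by
  rw [Monic, leadingCoeff, natDegree_recipPoly h, coeff_recipPoly g le_rfl, Nat.sub_self, inv_mul_cancel₀ h]

theorem coeff_zero_recipPoly {g : F[X]} (hg : g.Monic) : (recipPoly g).coeff 0 = (g.coeff 0)⁻¹ := by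
  rw [coeff_recipPoly g (Nat.zero_le _), Nat.sub_zero, hg.coeff_natDegree, mul_one]

theorem recipPoly_recipPoly {g : F[X]} (hg : g.Monic) (h : g.coeff 0 ≠ 0) : recipPoly (recipPoly g) = g := by
  ext k
  by_cases hk : k ≤ g.natDegree
  · rw [coeff_recipPoly _ (by rw [natDegree_recipPoly h]; exact hk), natDegree_recipPoly h,
      coeff_zero_recipPoly hg, coeff_recipPoly g (Nat.sub_le _ _), inv_inv, ← mul_assoc, mul_inv_cancel₀ h, one_mul,
      Nat.sub_sub_self hk]
  · rw [coeff_eq_zero_of_natDegree_lt (by omega : g.natDegree < k), coeff_eq_zero_of_natDegree_lt]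
    rw [natDegree_recipPoly (by rw [coeff_zero_recipPoly hg]; exact inv_ne_zero h), natDegree_recipPoly h]
    omega

theorem recipPoly_one : recipPoly (1 : F[X]) = 1 := by
  rw [recipPoly, coeff_one_zero, inv_one, C_1, one_mul, ← C_1, reverse_C]

theorem recipPoly_mul (a b : F[X]) : recipPoly (a * b) = recipPoly a * recipPoly b := by
  rw [recipPoly, recipPoly, recipPoly, reverse_mul_of_domain, mul_coeff_zero, mul_inv, C_mul]
  ring

theorem recipPoly_prod {α : Type*} (s : Finset α) (f : α → F[X]) :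
    recipPoly (∏ a ∈ s, f a) = ∏ a ∈ s, recipPoly (f a) := by
  induction s using Finset.induction_on with
  | empty => exact recipPoly_one
  | insert a s ha ih => rw [Finset.prod_insert ha, Finset.prod_insert ha, recipPoly_mul, ih]

theorem recipPoly_pow (a : F[X]) (k : ℕ) : recipPoly (a ^ k) = recipPoly a ^ k := by
  induction k with
  | zero => rw [pow_zero, pow_zero, recipPoly_one]
  | succ k ih => rw [pow_succ, pow_succ, recipPoly_mul, ih]

theorem irreducible_recipPoly {p : F[X]} (hp : Irreducible p) (hm : p.Monic) (h : p.coeff 0 ≠ 0) :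
    Irreducible (recipPoly p) := by
  refine ⟨fun hu => ?_, fun a b hab => ?_⟩
  · have := natDegree_eq_zero_of_isUnit hu
    rw [natDegree_recipPoly h] at this
    exact hp.natDegree_pos.ne' this
  · have h0 : a.coeff 0 * b.coeff 0 ≠ 0 := by
      rw [← mul_coeff_zero, ← hab, coeff_zero_recipPoly hm]
      exact inv_ne_zero h
    have hunit : ∀ c : F[X], c.coeff 0 ≠ 0 → IsUnit (recipPoly c) → IsUnit c := fun c hc hu => by
      refine isUnit_iff_degree_eq_zero.2 ?_
      have h2 := natDegree_eq_zero_of_isUnit hu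
      rw [natDegree_recipPoly hc] at h2
      rw [degree_eq_natDegree (fun hz => hc (by rw [hz, coeff_zero])), h2, Nat.cast_zero]
    have h2 : p = recipPoly a * recipPoly b := by rw [← recipPoly_mul, ← hab, recipPoly_recipPoly hm h]
    exact (hp.isUnit_or_isUnit h2).imp (hunit a (left_ne_zero_of_mul h0)) (hunit b (right_ne_zero_of_mul h0))

theorem exists_root_inv {r : F[X]} (h0 : r.coeff 0 ≠ 0) : ∃ s : AdjoinRoot r, AdjoinRoot.root r * s = 1 := by
  refine ⟨AdjoinRoot.mk r (-(C (r.coeff 0)⁻¹ * r.divX)), ?_⟩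
  rw [← AdjoinRoot.mk_X, ← map_mul, ← map_one (AdjoinRoot.mk r), AdjoinRoot.mk_eq_mk]
  refine ⟨-C (r.coeff 0)⁻¹, ?_⟩
  conv_rhs => rw [← X_mul_divX_add r]
  simp only [coeff_add, coeff_X_mul_zero, zero_add, coeff_C_zero]
  have : (C (r.coeff 0) : F[X]) * C (r.coeff 0)⁻¹ = 1 := by rw [← C_mul, mul_inv_cancel₀ h0, C_1]
  linear_combination this

theorem aeval_root_inv {r : F[X]} (h0 : r.coeff 0 ≠ 0) (s : AdjoinRoot (recipPoly r))
    (hs : AdjoinRoot.root (recipPoly r) * s = 1) : aeval s r = 0 := by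
  let _ : Invertible s := ⟨AdjoinRoot.root (recipPoly r), hs, by rw [mul_comm]; exact hs⟩
  rw [aeval_def, ← eval₂_reverse_eq_zero_iff (algebraMap F (AdjoinRoot (recipPoly r))) s r]
  show eval₂ _ (AdjoinRoot.root (recipPoly r)) _ = 0
  have h : C (r.coeff 0) * recipPoly r = r.reverse := by
    rw [recipPoly, ← mul_assoc, ← C_mul, mul_inv_cancel₀ h0, C_1, one_mul]
  rw [← aeval_def, ← h, map_mul, AdjoinRoot.aeval_eq (recipPoly r), AdjoinRoot.mk_self, mul_zero]

theorem exists_recip_equiv {r r' : F[X]} (hr : r.Monic) (h0 : r.coeff 0 ≠ 0) (h : recipPoly r = r') :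
    ∃ θ : AdjoinRoot r ≃ₐ[F] AdjoinRoot r', AdjoinRoot.root r' * θ (AdjoinRoot.root r) = 1 := by
  subst h
  have h0' : (recipPoly r).coeff 0 ≠ 0 := by rw [coeff_zero_recipPoly hr]; exact inv_ne_zero h0
  obtain ⟨s', hs'⟩ := exists_root_inv h0'
  obtain ⟨s, hs⟩ := exists_root_inv h0
  have key : ∀ (p : F[X]) (_ : p = r) (s : AdjoinRoot p), AdjoinRoot.root p * s = 1 → aeval s (recipPoly r) = 0 := by
    intro p hp
    have hrr := recipPoly_recipPoly hr h0
    subst hp
    have := aeval_root_inv h0'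
    rw [hrr] at this
    exact this
  let f : AdjoinRoot r →ₐ[F] AdjoinRoot (recipPoly r) :=
    AdjoinRoot.liftAlgHom r (Algebra.ofId F _) s' (aeval_root_inv h0 s' hs')
  let g : AdjoinRoot (recipPoly r) →ₐ[F] AdjoinRoot r :=
    AdjoinRoot.liftAlgHom (recipPoly r) (Algebra.ofId F _) s (key r rfl s hs)
  have hf : f (AdjoinRoot.root r) = s' := AdjoinRoot.liftAlgHom_root _ _ _ _
  have hg : g (AdjoinRoot.root (recipPoly r)) = s := AdjoinRoot.liftAlgHom_root _ _ _ _
  refine ⟨AlgEquiv.ofAlgHom f g (AdjoinRoot.algHom_ext ?_) (AdjoinRoot.algHom_ext ?_), ?_⟩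
  · show f (g (AdjoinRoot.root _)) = AdjoinRoot.root _
    rw [hg]
    have h1 := congrArg f hs
    rw [map_mul, hf, map_one] at h1
    exact (left_inv_eq_right_inv hs' h1).symm
  · show g (f (AdjoinRoot.root r)) = AdjoinRoot.root r
    rw [hf]
    have h1 := congrArg g hs'
    rw [map_mul, hg, map_one] at h1
    exact (left_inv_eq_right_inv hs h1).symm
  · show AdjoinRoot.root _ * f (AdjoinRoot.root r) = 1
    rw [hf, hs']

variable {V : Type u} [AddCommGroup V] [Module F V]

theorem Decomp.exists_inv {T T' : Module.End F V} (D : Decomp T) (hT : Function.Surjective T)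
    (h : ∀ v, T' (T v) = v) : ∃ D' : Decomp T', ∀ k, k ≠ 0 → D'.part k = recipPoly (D.part k) := by
  have h0 : ∀ i : {i : D.ι // D.e i ≠ 0}, (D.p i ^ D.e i).coeff 0 ≠ 0 := fun i => by
    rw [coeff_zero_eq_eval_zero, eval_pow, ← coeff_zero_eq_eval_zero]
    exact pow_ne_zero _ (D.coeff_zero_ne hT i i.2)
  choose θ hθ using fun i : {i : D.ι // D.e i ≠ 0} =>
    exists_recip_equiv (D.pow_monic i) (h0 i) (recipPoly_pow (D.p i) (D.e i))
  let R : (∀ i, AdjoinRoot (D.p i ^ D.e i)) ≃ₗ[F] ∀ i : {i : D.ι // D.e i ≠ 0}, AdjoinRoot (D.p i ^ D.e i) :=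
    LinearEquiv.ofBijective (LinearMap.pi fun i => LinearMap.proj i.1)
      ⟨fun a b hab => funext fun i => by
        by_cases hi : D.e i = 0
        · exact @Subsingleton.elim _ (D.subsingleton i hi) _ _
        · exact congrFun hab ⟨i, hi⟩,
      fun y => ⟨fun i => if hi : D.e i ≠ 0 then y ⟨i, hi⟩ else 0, funext fun i => by
        show dite (D.e i.1 ≠ 0) (fun hi => y ⟨i.1, hi⟩) (fun _ => 0) = y i
        rw [dif_pos i.2]⟩⟩
  refine ⟨
    { ι := {i : D.ι // D.e i ≠ 0}
      p := fun i => recipPoly (D.p i)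
      e := fun i => D.e i
      monic := fun i => monic_recipPoly (D.coeff_zero_ne hT i i.2)
      irr := fun i => irreducible_recipPoly (D.irr i) (D.monic i) (D.coeff_zero_ne hT i i.2)
      Φ := (D.Φ.trans R).trans (LinearEquiv.piCongrRight fun i => (θ i).toLinearEquiv)
      comm := fun v i => ?_ }, fun k hk => ?_⟩
  · obtain ⟨w, rfl⟩ := hT v
    show θ i (D.Φ (T' (T w)) i.1) = _ * θ i (D.Φ (T w) i.1)
    rw [h, D.comm, map_mul, ← mul_assoc, hθ, one_mul]
  · show ∏ i ∈ Finset.univ.filter (fun i : {i : D.ι // D.e i ≠ 0} => D.e i.1 = k), recipPoly (D.p i.1) = _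
    rw [Decomp.part, recipPoly_prod]
    exact Finset.prod_bij (fun i _ => i.1) (fun i hi => by simpa using (Finset.mem_filter.1 hi).2)
      (fun a _ b _ hab => Subtype.ext hab)
      (fun i hi => ⟨⟨i, by rw [(Finset.mem_filter.1 hi).2]; exact hk⟩, by simpa using hi, rfl⟩) fun i _ => rfl

theorem Decomp.exists_map {n : ℕ} (σ : F →+* F) (hσ : ∀ a, σ (σ a) = a) {M : Matrix (Fin n) (Fin n) F}
    (D : Decomp (endo M)) : ∃ D' : Decomp (endo (M.map σ)), ∀ k, D'.part k = (D.part k).map σ := by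
  let σe : F ≃+* F := { σ with invFun := σ, left_inv := hσ, right_inv := hσ }
  let θ : ∀ i, AdjoinRoot (D.p i ^ D.e i) ≃+* AdjoinRoot ((D.p i).map σ ^ D.e i) := fun i =>
    AdjoinRoot.mapRingEquiv σe _ _ (Associated.of_eq (Polynomial.map_pow _ _))
  let Ψ : (Fin n → F) ≃+ ∀ i, AdjoinRoot ((D.p i).map σ ^ D.e i) :=
    ((AddEquiv.piCongrRight fun _ => σe.toAddEquiv).trans D.Φ.toAddEquiv).trans
      (AddEquiv.piCongrRight fun i => (θ i).toAddEquiv)
  have hΨ : ∀ v i, Ψ v i = θ i (D.Φ (σ ∘ v) i) := fun v i => rfl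
  have hroot : ∀ i, θ i (AdjoinRoot.root (D.p i ^ D.e i)) = AdjoinRoot.root ((D.p i).map σ ^ D.e i) := fun i => by
    rw [AdjoinRoot.coe_mapRingEquiv, AdjoinRoot.map_root]
  have hof : ∀ i a, θ i (AdjoinRoot.of (D.p i ^ D.e i) a) = AdjoinRoot.of ((D.p i).map σ ^ D.e i) (σ a) := fun i a => by
    rw [AdjoinRoot.coe_mapRingEquiv, AdjoinRoot.map_of]
    rfl
  refine ⟨
    { ι := D.ι
      p := fun i => (D.p i).map σ
      e := D.e
      monic := fun i => (D.monic i).map σ
      irr := fun i => (MulEquiv.irreducible_iff (Polynomial.mapEquiv σe).toMulEquiv).2 (D.irr i)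
      Φ := Ψ.toLinearEquiv fun c v => funext fun i => ?_
      comm := fun v i => ?_ }, fun k => (Polynomial.map_prod σ _ _).symm⟩
  · rw [Pi.smul_apply, hΨ, hΨ, show σ ∘ (c • v) = σ c • (σ ∘ v) from funext fun j => map_mul σ _ _, map_smul,
      Pi.smul_apply, Algebra.smul_def, Algebra.smul_def, AdjoinRoot.algebraMap_eq, AdjoinRoot.algebraMap_eq,
      map_mul, hof, hσ]
  · show Ψ (endo (M.map σ) v) i = _ * Ψ v i
    have hc : σ ∘ endo (M.map σ) v = endo M (σ ∘ v) := funext fun j => by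
      show σ ((M.map σ *ᵥ v) j) = (M *ᵥ (σ ∘ v)) j
      rw [RingHom.map_mulVec, Matrix.map_map, show σ ∘ σ = id from funext hσ, Matrix.map_id]
    rw [hΨ, hΨ, hc, D.comm, map_mul, hroot]

end CfsgLib.ClassNumber
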